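import Mathlib.AlgebraicGeometry.AffineScheme
import Mathlib.AlgebraicGeometry.Morphisms.OpenImmersion
import Mathlib.CategoryTheory.Limits.Types.Pullbacks

/-! Cartesian squares of rings and basic opens where one leg is an isomorphism. -/

set_option autoImplicit false
set_option backward.isDefEq.respectTransparency false
set_option backward.isDefEq.respectTransparency.types false

universe u

open CategoryTheory AlgebraicGeometry

namespace Groth.Lim71

variable {B B' R R' : Type u} [CommRing B] [CommRing B'] [CommRing R] [CommRing R']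
  (s : B →+* R) (t : R' →+* R) (p : B' →+* B) (q : B' →+* R')
  (hsq : IsPullback (CommRingCat.ofHom p) (CommRingCat.ofHom q) (CommRingCat.ofHom s) (CommRingCat.ofHom t))

include hsq

theorem isPullback_types :
    (∀ z, s (p z) = t (q z)) ∧ (∀ z w, p z = p w → q z = q w → z = w) ∧
      ∀ b r, s b = t r → ∃ z, p z = b ∧ q z = r := by
  obtain ⟨h1, h2, h3⟩ := (Limits.Types.isPullback_iff _ _ _ _).mp (hsq.map (forget CommRingCat))
  exact ⟨fun z => congr($(hsq.w) z), fun z w h h' => h2 z w ⟨h, h'⟩, h3⟩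

theorem bijective_awayMap_of_cartesian (a : B') (hiso : Function.Bijective (Localization.awayMap s (p a))) :
    Function.Bijective (Localization.awayMap q a) := by
  obtain ⟨hw, huniq, hex⟩ := isPullback_types s t p q hsq
  have key : ∀ (x : B) (n : ℕ),
      Localization.awayMap s (p a) (IsLocalization.mk' (Localization.Away (p a)) x (⟨p a ^ n, n, rfl⟩ : Submonoid.powers (p a))) =
        IsLocalization.mk' (Localization.Away (s (p a))) (s x) (⟨s (p a) ^ n, n, rfl⟩ : Submonoid.powers (s (p a))) := by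
    intro x n
    rw [Localization.awayMap, IsLocalization.Away.map, IsLocalization.map_mk']
    congr 1
    exact Subtype.ext (map_pow s _ n)
  have keyq : ∀ (z : B') (n : ℕ),
      Localization.awayMap q a (IsLocalization.mk' (Localization.Away a) z (⟨a ^ n, n, rfl⟩ : Submonoid.powers a)) =
        IsLocalization.mk' (Localization.Away (q a)) (q z) (⟨q a ^ n, n, rfl⟩ : Submonoid.powers (q a)) := by
    intro z n
    rw [Localization.awayMap, IsLocalization.Away.map, IsLocalization.map_mk']
    congr 1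
    exact Subtype.ext (map_pow q _ n)
  refine ⟨(injective_iff_map_eq_zero _).2 fun x hx => ?_, fun y => ?_⟩
  · obtain ⟨z, ⟨_, n, rfl⟩, rfl⟩ := IsLocalization.exists_mk'_eq (Submonoid.powers a) x
    rw [keyq, IsLocalization.mk'_eq_zero_iff] at hx
    obtain ⟨⟨_, m, rfl⟩, hm⟩ := hx
    have h0 : s (p a ^ m * p z) = 0 := by
      rw [← map_pow, ← map_mul, hw, map_mul, map_pow, hm, map_zero]
    have h1 : IsLocalization.mk' (Localization.Away (p a)) (p a ^ m * p z) (⟨p a ^ 0, 0, rfl⟩ : Submonoid.powers (p a)) = 0 :=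
      hiso.1 (by rw [key, map_zero, h0, IsLocalization.mk'_zero])
    rw [IsLocalization.mk'_eq_zero_iff] at h1
    obtain ⟨⟨_, l, rfl⟩, hl⟩ := h1
    refine (IsLocalization.mk'_eq_zero_iff z _).2 ⟨⟨a ^ (l + m), l + m, rfl⟩, huniq _ _ ?_ ?_⟩
    · rw [map_mul, map_pow, map_zero, pow_add, mul_assoc, hl]
    · rw [map_mul, map_pow, map_zero, pow_add, mul_assoc, hm, mul_zero]
  · obtain ⟨r, ⟨_, n, rfl⟩, rfl⟩ := IsLocalization.exists_mk'_eq (Submonoid.powers (q a)) y
    obtain ⟨x, hx⟩ := hiso.2 (IsLocalization.mk' (Localization.Away (s (p a))) (t r)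
      (⟨s (p a) ^ 0, 0, rfl⟩ : Submonoid.powers (s (p a))))
    obtain ⟨b, ⟨_, m, rfl⟩, rfl⟩ := IsLocalization.exists_mk'_eq (Submonoid.powers (p a)) x
    rw [key, IsLocalization.mk'_eq_iff_eq, IsLocalization.eq_iff_exists (Submonoid.powers (s (p a)))] at hx
    obtain ⟨⟨_, l, rfl⟩, hl⟩ := hx
    have hl' : s (p a) ^ l * s b = s (p a) ^ l * (s (p a) ^ m * t r) := by simpa using hl
    obtain ⟨z, hzb, hzr⟩ := hex (p a ^ l * b) (q a ^ (l + m) * r) (by
      rw [map_mul, map_pow, map_mul, map_pow, ← hw, hl', pow_add, mul_assoc])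
    refine ⟨IsLocalization.mk' (Localization.Away a) z (⟨a ^ (l + m + n), l + m + n, rfl⟩ : Submonoid.powers a), ?_⟩
    rw [keyq, IsLocalization.mk'_eq_iff_eq, hzr]
    congr 1
    simp only [pow_add]
    ring

theorem isOpenImmersion_of_cartesian {n : ℕ} (f : Fin n → R') (g : Fin n → B) (hfg : ∀ i, t (f i) = s (g i))
    (hiso : ∀ i, Function.Bijective (Localization.awayMap s (g i))) :
    IsOpenImmersion (Scheme.Opens.ι (X := Spec (CommRingCat.of R')) (⨆ i, PrimeSpectrum.basicOpen (f i)) ≫
      Spec.map (CommRingCat.ofHom q)) := by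
  obtain ⟨hw, huniq, hex⟩ := isPullback_types s t p q hsq
  choose a ha ha' using fun i => hex (g i) (f i) (hfg i).symm
  let φ := Spec.map (CommRingCat.ofHom q)
  let U : (Spec (CommRingCat.of B')).Opens := ⨆ i, PrimeSpectrum.basicOpen (a i)
  have hpre : φ ⁻¹ᵁ U = ⨆ i, PrimeSpectrum.basicOpen (f i) := by
    rw [Scheme.Hom.preimage_iSup]
    exact iSup_congr fun i => by rw [← ha' i]; rfl
  haveI : IsIso (φ ∣_ U) := by
    refine (IsZariskiLocalAtTarget.iff_of_iSup_eq_top (P := MorphismProperty.isomorphisms Scheme)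
      (fun i => U.ι ⁻¹ᵁ (PrimeSpectrum.basicOpen (a i) : (Spec (CommRingCat.of B')).Opens)) ?_).mpr fun i => ?_
    · rw [← Scheme.Hom.preimage_iSup, eq_top_iff]
      exact fun x _ => x.2
    · refine (MorphismProperty.arrow_mk_iso_iff _ (morphismRestrictRestrict φ U _)).mpr ?_
      have hle : (PrimeSpectrum.basicOpen (a i) : (Spec (CommRingCat.of B')).Opens) ≤ U :=
        le_iSup (fun j => (PrimeSpectrum.basicOpen (a j) : (Spec (CommRingCat.of B')).Opens)) i
      have himg : U.ι ''ᵁ (U.ι ⁻¹ᵁ (PrimeSpectrum.basicOpen (a i) : (Spec (CommRingCat.of B')).Opens)) =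
          PrimeSpectrum.basicOpen (a i) := by
        rw [Scheme.Hom.image_preimage_eq_opensRange_inf, Scheme.Opens.opensRange_ι]
        exact inf_eq_right.2 hle
      rw [himg]
      refine (MorphismProperty.arrow_mk_iso_iff _ (SpecMapRestrictBasicOpenIso (CommRingCat.ofHom q) (a i))).mpr ?_
      have hb := bijective_awayMap_of_cartesian s t p q hsq (a i) (by rw [ha i]; exact hiso i)
      show IsIso _
      haveI : IsIso (CommRingCat.ofHom (Localization.awayMap q (a i))) :=
        (RingEquiv.ofBijective _ hb).toCommRingCatIso.isIso_hom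
      exact inferInstanceAs (IsIso (Spec.map (CommRingCat.ofHom (Localization.awayMap q (a i)))))
  have h : IsOpenImmersion ((φ ⁻¹ᵁ U).ι ≫ φ) := by
    rw [← morphismRestrict_ι]; infer_instance
  rw [hpre] at h
  exact h

end Groth.Lim71
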