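import Mathlib

/-! Morphisms from the spectrum of a domain which is a union of subalgebras, to a scheme of finite type. -/

set_option autoImplicit false
set_option maxHeartbeats 1000000
set_option linter.style.haveILetI false

universe u

open AlgebraicGeometry CategoryTheory CategoryTheory.Limits

namespace Groth.Lim71

section Ring

variable {B B' B'' : Type u} [CommRing B] [CommRing B'] [CommRing B'']

/-- The map of localizations away from elements. -/
noncomputable def locMap (f : B →+* B') (b : B) (b' : B')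
    (h : IsUnit (algebraMap B' (Localization.Away b') (f b))) :
    Localization.Away b →+* Localization.Away b' :=
  IsLocalization.Away.lift b (g := (algebraMap B' (Localization.Away b')).comp f) h

theorem locMap_algebraMap (f : B →+* B') (b : B) (b' : B')
    (h : IsUnit (algebraMap B' (Localization.Away b') (f b))) (x : B) :
    locMap f b b' h (algebraMap B (Localization.Away b) x) = algebraMap B' (Localization.Away b') (f x) :=
  IsLocalization.Away.lift_eq b h x

theorem locMap_comp_algebraMap (f : B →+* B') (b : B) (b' : B')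
    (h : IsUnit (algebraMap B' (Localization.Away b') (f b))) :
    (locMap f b b' h).comp (algebraMap B (Localization.Away b)) = (algebraMap B' (Localization.Away b')).comp f :=
  RingHom.ext (locMap_algebraMap f b b' h)

theorem locMap_comp (f : B →+* B') (g : B' →+* B'') (k : B →+* B'') (hk : ∀ x, g (f x) = k x) (b : B) (b' : B') (b'' : B'')
    (h : IsUnit (algebraMap B' (Localization.Away b') (f b)))
    (h' : IsUnit (algebraMap B'' (Localization.Away b'') (g b')))
    (h'' : IsUnit (algebraMap B'' (Localization.Away b'') (k b))) :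
    (locMap g b' b'' h').comp (locMap f b b' h) = locMap k b b'' h'' := by
  refine IsLocalization.ringHom_ext (Submonoid.powers b) (RingHom.ext fun x => ?_)
  simp only [RingHom.comp_apply, locMap_algebraMap, hk]

theorem isUnit_self (f : B →+* B') (b : B) (b' : B') (h : f b = b') :
    IsUnit (algebraMap B' (Localization.Away b') (f b)) := by
  rw [h]; exact IsLocalization.Away.algebraMap_isUnit b'

theorem isUnit_mul_left (f : B →+* B') (b : B) (b₁ b₂ : B') (h : f b = b₁) :
    IsUnit (algebraMap B' (Localization.Away (b₁ * b₂)) (f b)) := by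
  have := IsLocalization.Away.algebraMap_isUnit (S := Localization.Away (b₁ * b₂)) (b₁ * b₂)
  rw [map_mul, IsUnit.mul_iff] at this
  exact h ▸ this.1

theorem isUnit_mul_right (f : B →+* B') (b : B) (b₁ b₂ : B') (h : f b = b₂) :
    IsUnit (algebraMap B' (Localization.Away (b₁ * b₂)) (f b)) := by
  have := IsLocalization.Away.algebraMap_isUnit (S := Localization.Away (b₁ * b₂)) (b₁ * b₂)
  rw [map_mul, IsUnit.mul_iff] at this
  exact h ▸ this.2

theorem isUnit_of_mul (f : B →+* B') (b : B) (b' x : B') (h : f b * x = b') :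
    IsUnit (algebraMap B' (Localization.Away b') (f b)) := by
  have := IsLocalization.Away.algebraMap_isUnit (S := Localization.Away b') b'
  rw [← h] at this ⊢
  rw [map_mul, IsUnit.mul_iff] at this
  exact this.1

theorem locMap_injective (f : B →+* B') (hf : Function.Injective f) (b : B) (b' : B') (hb : f b = b')
    (h : IsUnit (algebraMap B' (Localization.Away b') (f b))) : Function.Injective (locMap f b b' h) := by
  subst hb
  rw [injective_iff_map_eq_zero]
  intro x hx
  obtain ⟨n, a, hax⟩ := IsLocalization.Away.surj b x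
  have h1 : algebraMap B' (Localization.Away (f b)) (f a) = 0 := by
    rw [← locMap_algebraMap f b (f b) h a, ← hax, map_mul, hx, zero_mul]
  obtain ⟨⟨_, m, rfl⟩, hm⟩ := (IsLocalization.map_eq_zero_iff (Submonoid.powers (f b)) _ _).1 h1
  have h2 : b ^ m * a = 0 := hf (by rw [map_mul, map_pow, map_zero]; exact hm)
  have h3 : algebraMap B (Localization.Away b) a = 0 :=
    (IsLocalization.map_eq_zero_iff (Submonoid.powers b) _ _).2 ⟨⟨b ^ m, m, rfl⟩, h2⟩
  rw [h3] at hax
  exact ((IsLocalization.Away.algebraMap_isUnit b).pow n).mul_left_eq_zero.1 hax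

/-- An open containing the image of the limit contains the image of a later stage. -/
theorem exists_finset_of_range_subset {C : Type u} [CommRing C] (f : B →+* C) (O : Set (PrimeSpectrum B))
    (hO : IsOpen O) (h : ∀ p : PrimeSpectrum C, PrimeSpectrum.comap f p ∈ O) :
    ∃ s : Finset C, ∀ (B₁ : Type u) [CommRing B₁] (v : B →+* B₁) (w : B₁ →+* C),
      Function.Injective w → w.comp v = f → (∀ x ∈ s, x ∈ w.range) → ∀ p, PrimeSpectrum.comap v p ∈ O := by
  classical
  obtain ⟨I, hI⟩ := (PrimeSpectrum.isClosed_iff_zeroLocus_ideal _).1 hO.isClosed_compl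
  have hmem : ∀ q : PrimeSpectrum B, q ∈ O ↔ ¬ I ≤ q.asIdeal := fun q => by
    rw [← not_iff_not, not_not, ← Set.mem_compl_iff, hI, PrimeSpectrum.mem_zeroLocus]
    rfl
  have htop : I.map f = ⊤ := by
    by_contra hne
    obtain ⟨m, hm, hle⟩ := Ideal.exists_le_maximal _ hne
    exact (hmem _).1 (h ⟨m, hm.isPrime⟩) (Ideal.map_le_iff_le_comap.1 hle)
  obtain ⟨n, x, b, hxb⟩ := (Submodule.mem_span_set' (R := C) (s := f '' (I : Set B))).1
    (show (1 : C) ∈ Ideal.span (f '' (I : Set B)) by rw [show Ideal.span (f '' (I : Set B)) = I.map f from rfl, htop]; trivial)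
  refine ⟨Finset.image x Finset.univ, fun B₁ _ v w hw hvw hs p => (hmem _).2 fun hle => ?_⟩
  choose x' hx' using fun t => hs (x t) (Finset.mem_image_of_mem x (Finset.mem_univ t))
  choose b' hb' hbe using fun t => (b t).2
  have h1 : ∑ t, x' t * v (b' t) = 1 := hw (by
    rw [map_sum, map_one, ← hxb]
    refine Finset.sum_congr rfl fun t _ => ?_
    rw [map_mul, hx' t, show w (v (b' t)) = f (b' t) from RingHom.congr_fun hvw _, hbe t, smul_eq_mul])
  apply p.2.ne_top
  rw [Ideal.eq_top_iff_one, ← h1]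
  exact sum_mem fun t _ => Ideal.mul_mem_left _ _ (hle (hb' t))

end Ring

section Scheme

variable {X : Scheme.{u}}

theorem range_Spec_away {B : Type u} [CommRing B] (b : B) :
    Set.range (Spec.map (CommRingCat.ofHom (algebraMap B (Localization.Away b)))).base =
      (PrimeSpectrum.basicOpen b : Set (PrimeSpectrum B)) :=
  PrimeSpectrum.localization_away_comap_range (Localization.Away b) b

theorem eq_of_injective {B C : Type u} [CommRing B] [CommRing C] (f : B →+* C) (hf : Function.Injective f)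
    (h₁ h₂ : Spec (CommRingCat.of B) ⟶ X)
    (hW : ∀ p, ∃ W : X.Opens, IsAffineOpen W ∧ h₁.base p ∈ W ∧ h₂.base p ∈ W)
    (h : Spec.map (CommRingCat.ofHom f) ≫ h₁ = Spec.map (CommRingCat.ofHom f) ≫ h₂) : h₁ = h₂ := by
  let G : Set B := {b | ∃ W : X.Opens, IsAffineOpen W ∧
    ∀ q : PrimeSpectrum B, b ∉ q.asIdeal → h₁.base q ∈ W ∧ h₂.base q ∈ W}
  have htop : Ideal.span (Set.range (fun b : G => (b : B))) = ⊤ := by
    rw [Subtype.range_coe]
    by_contra hne
    obtain ⟨m, hm, hle⟩ := Ideal.exists_le_maximal _ hne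
    obtain ⟨W, hW, hm1, hm2⟩ := hW ⟨m, hm.isPrime⟩
    obtain ⟨_, ⟨b, rfl⟩, hbm, hbU⟩ := (PrimeSpectrum.isTopologicalBasis_basic_opens.isOpen_iff).1
      ((h₁ ⁻¹ᵁ W).2.inter (h₂ ⁻¹ᵁ W).2) ⟨m, hm.isPrime⟩ ⟨hm1, hm2⟩
    exact hbm (hle (Ideal.subset_span ⟨W, hW, fun q hq => hbU hq⟩))
  refine ((Scheme.affineOpenCoverOfSpanRangeEqTop (R := CommRingCat.of B) (fun b : G => (b : B)) htop).openCover).hom_ext _ _ ?_
  rintro ⟨b, W, hW, hb⟩
  let q : Spec (CommRingCat.of (Localization.Away b)) ⟶ Spec (CommRingCat.of B) :=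
    Spec.map (CommRingCat.ofHom (algebraMap B (Localization.Away b)))
  change q ≫ h₁ = q ≫ h₂
  have hq : ∀ y, b ∉ (q.base y).asIdeal := fun y => (range_Spec_away b).le ⟨y, rfl⟩
  have r1 : Set.range (q ≫ h₁).base ⊆ Set.range hW.fromSpec.base := by
    rw [IsAffineOpen.range_fromSpec]; rintro _ ⟨y, rfl⟩; exact (hb _ (hq y)).1
  have r2 : Set.range (q ≫ h₂).base ⊆ Set.range hW.fromSpec.base := by
    rw [IsAffineOpen.range_fromSpec]; rintro _ ⟨y, rfl⟩; exact (hb _ (hq y)).2
  obtain ⟨φ₁, hφ₁⟩ := Spec.map_surjective (IsOpenImmersion.lift hW.fromSpec _ r1)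
  obtain ⟨φ₂, hφ₂⟩ := Spec.map_surjective (IsOpenImmersion.lift hW.fromSpec _ r2)
  let v : Localization.Away b →+* Localization.Away (f b) := locMap f b (f b) (isUnit_self f b _ rfl)
  have hv : Function.Injective v := locMap_injective f hf b _ rfl _
  have hvq : Spec.map (CommRingCat.ofHom v) ≫ q =
      Spec.map (CommRingCat.ofHom (algebraMap C (Localization.Away (f b)))) ≫ Spec.map (CommRingCat.ofHom f) := by
    rw [← Spec.map_comp, ← Spec.map_comp, ← CommRingCat.ofHom_comp, ← CommRingCat.ofHom_comp, locMap_comp_algebraMap]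
  have e : Spec.map (CommRingCat.ofHom v) ≫ Spec.map φ₁ = Spec.map (CommRingCat.ofHom v) ≫ Spec.map φ₂ := by
    rw [← cancel_mono hW.fromSpec, Category.assoc, Category.assoc, hφ₁, hφ₂,
      IsOpenImmersion.lift_fac, IsOpenImmersion.lift_fac, reassoc_of% hvq, reassoc_of% hvq, h]
  rw [← Spec.map_comp, ← Spec.map_comp, Spec.map_inj] at e
  have hφ : φ₁ = φ₂ := CommRingCat.hom_ext (RingHom.ext fun x => hv congr($e x))
  rw [← IsOpenImmersion.lift_fac hW.fromSpec _ r1, ← IsOpenImmersion.lift_fac hW.fromSpec _ r2, ← hφ₁, ← hφ₂, hφ]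

end Scheme

section Union

variable {ι : Type u} {A C : Type u} [CommRing A] [CommRing C] [Algebra A C]
  (S : ι → Subalgebra A C) (hdir : Directed (· ≤ ·) S) (hcov : ∀ c : C, ∃ i, c ∈ S i)

/-- The localized stage. -/
abbrev Stage (i : ι) (c : C) (hc : c ∈ S i) : Type u := Localization.Away (⟨c, hc⟩ : S i)

/-- The localized stage maps into the localized limit. -/
noncomputable abbrev toLim (i : ι) (c : C) (hc : c ∈ S i) : Stage S i c hc →+* Localization.Away c :=
  locMap (S i).val.toRingHom ⟨c, hc⟩ c (isUnit_self _ _ _ rfl)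

theorem toLim_injective (i : ι) (c : C) (hc : c ∈ S i) : Function.Injective (toLim S i c hc) :=
  locMap_injective _ Subtype.val_injective _ _ rfl _

/-- The transition map between localized stages. -/
noncomputable abbrev stageMap {i j : ι} (hij : S i ≤ S j) (c : C) (hc : c ∈ S i) :
    Stage S i c hc →+* Stage S j c (hij hc) :=
  locMap (Subalgebra.inclusion hij).toRingHom ⟨c, hc⟩ ⟨c, hij hc⟩ (isUnit_self _ _ _ rfl)

theorem toLim_stageMap {i j : ι} (hij : S i ≤ S j) (c : C) (hc : c ∈ S i) :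
    (toLim S j c (hij hc)).comp (stageMap S hij c hc) = toLim S i c hc :=
  locMap_comp _ _ _ (fun _ => rfl) _ _ _ _ _ _

include hdir hcov in
theorem exists_stage (i : ι) (s : Finset C) : ∃ j, S i ≤ S j ∧ ∀ x ∈ s, x ∈ S j := by
  classical
  induction s using Finset.induction with
  | empty => exact ⟨i, le_rfl, fun x hx => absurd hx (Finset.notMem_empty x)⟩
  | insert a s ha ih =>
    obtain ⟨j, hj, hs⟩ := ih
    obtain ⟨l, hl⟩ := hcov a
    obtain ⟨m, hjm, hlm⟩ := hdir j l
    refine ⟨m, hj.trans hjm, fun x hx => ?_⟩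
    rcases Finset.mem_insert.1 hx with rfl | hx
    · exact hlm hl
    · exact hjm (hs x hx)

/-- A numerator of an element of a localization. -/
noncomputable def num (c : C) (x : Localization.Away c) : C :=
  (IsLocalization.Away.surj c x).choose_spec.choose

theorem num_spec (c : C) (x : Localization.Away c) :
    ∃ n : ℕ, x * algebraMap C (Localization.Away c) c ^ n = algebraMap C (Localization.Away c) (num c x) :=
  ⟨_, (IsLocalization.Away.surj c x).choose_spec.choose_spec⟩

theorem mem_range_toLim {j : ι} (c : C) (hc : c ∈ S j) (x : Localization.Away c)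
    (h : num c x ∈ S j) : x ∈ (toLim S j c hc).range := by
  obtain ⟨n, hspec⟩ := num_spec c x
  obtain ⟨u, hu⟩ := (IsLocalization.Away.algebraMap_isUnit (S := Stage S j c hc) (⟨c, hc⟩ : S j)).pow n
  have hv : algebraMap C (Localization.Away c) c ^ n = toLim S j c hc (u : Stage S j c hc) := by
    rw [hu, map_pow, locMap_algebraMap]; rfl
  have ha : algebraMap C (Localization.Away c) (num c x) = toLim S j c hc (algebraMap (S j) _ ⟨num c x, h⟩) := by
    rw [locMap_algebraMap]; rfl
  refine ⟨algebraMap (S j) _ ⟨num c x, h⟩ * ↑u⁻¹, ?_⟩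
  rw [map_mul, ← ha, ← hspec, hv, mul_assoc, ← map_mul, Units.mul_inv, map_one, mul_one]

variable {X : Scheme.{u}}

include hdir hcov in
theorem eq_at_stage (i : ι) (e : C) (he : e ∈ S i)
    (h₁ h₂ : Spec (CommRingCat.of (Stage S i e he)) ⟶ X)
    (h : Spec.map (CommRingCat.ofHom (toLim S i e he)) ≫ h₁ = Spec.map (CommRingCat.ofHom (toLim S i e he)) ≫ h₂) :
    ∃ (j : ι) (hij : S i ≤ S j), Spec.map (CommRingCat.ofHom (stageMap S hij e he)) ≫ h₁ =
      Spec.map (CommRingCat.ofHom (stageMap S hij e he)) ≫ h₂ := by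
  classical
  let O : Set (PrimeSpectrum (Stage S i e he)) :=
    {p | ∃ W : X.Opens, IsAffineOpen W ∧ h₁.base p ∈ W ∧ h₂.base p ∈ W}
  have hO : IsOpen O := by
    rw [isOpen_iff_forall_mem_open]
    rintro p ⟨W, hW, hp⟩
    exact ⟨(h₁ ⁻¹ᵁ W).1 ∩ (h₂ ⁻¹ᵁ W).1, fun q hq => ⟨W, hW, hq⟩, (h₁ ⁻¹ᵁ W).2.inter (h₂ ⁻¹ᵁ W).2, hp⟩
  have hlim : ∀ p, PrimeSpectrum.comap (toLim S i e he) p ∈ O := fun p => by
    let z := (Spec.map (CommRingCat.ofHom (toLim S i e he)) ≫ h₁).base p
    obtain ⟨W, hW, hzW, -⟩ := exists_isAffineOpen_mem_and_subset (x := z) (U := ⊤) trivial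
    refine ⟨W, hW, hzW, ?_⟩
    change (Spec.map (CommRingCat.ofHom (toLim S i e he)) ≫ h₂).base p ∈ W
    rw [← h]; exact hzW
  obtain ⟨s, hs⟩ := exists_finset_of_range_subset _ O hO hlim
  obtain ⟨j, hij, hj⟩ := exists_stage S hdir hcov i (s.image fun x => num e x)
  refine ⟨j, hij, eq_of_injective _ (toLim_injective S j e (hij he)) _ _ (fun p => ?_) ?_⟩
  · exact hs _ (stageMap S hij e he) (toLim S j e (hij he)) (toLim_injective S j e _) (toLim_stageMap S hij e he)
      (fun x hx => mem_range_toLim S e _ x (hj _ (Finset.mem_image_of_mem _ hx))) p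
  · rw [← Spec.map_comp_assoc, ← Spec.map_comp_assoc, ← CommRingCat.ofHom_comp, toLim_stageMap]
    exact h

include hdir hcov in
theorem exists_charts (f : X ⟶ Spec (CommRingCat.of A)) [LocallyOfFiniteType f]
    (g : Spec (CommRingCat.of C) ⟶ X) (hg : g ≫ f = Spec.map (CommRingCat.ofHom (algebraMap A C))) :
    ∃ (i : ι) (T : Finset C) (hTi : ∀ c : T, (c : C) ∈ S i)
      (h : ∀ c : T, Spec (CommRingCat.of (Stage S i c (hTi c))) ⟶ X) (w : T → S i),
      (∑ c : T, w c * ⟨c, hTi c⟩ = 1) ∧
      (∀ c : T, Spec.map (CommRingCat.ofHom (toLim S i c (hTi c))) ≫ h c =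
        Spec.map (CommRingCat.ofHom (algebraMap C (Localization.Away (c : C)))) ≫ g) ∧
      ∀ c : T, h c ≫ f = Spec.map (CommRingCat.ofHom ((algebraMap (S i) (Stage S i c (hTi c))).comp (algebraMap A (S i)))) := by
  classical
  obtain ⟨i₀, -⟩ := hcov 0
  let G : Set C := {c | ∃ W : X.Opens, IsAffineOpen W ∧ ∀ q : PrimeSpectrum C, c ∉ q.asIdeal → g.base q ∈ W}
  have htop : Ideal.span G = ⊤ := by
    by_contra hne
    obtain ⟨m, hm, hle⟩ := Ideal.exists_le_maximal _ hne
    obtain ⟨W, hW, hmW, -⟩ := exists_isAffineOpen_mem_and_subset (x := g.base ⟨m, hm.isPrime⟩) (U := ⊤) trivial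
    obtain ⟨_, ⟨b, rfl⟩, hbm, hbU⟩ := (PrimeSpectrum.isTopologicalBasis_basic_opens.isOpen_iff).1
      (g ⁻¹ᵁ W).2 ⟨m, hm.isPrime⟩ hmW
    exact hbm (hle (Ideal.subset_span ⟨W, hW, fun q hq => hbU hq⟩))
  obtain ⟨T, hTG, hT1⟩ := Submodule.mem_span_finite_of_mem_span ((Ideal.eq_top_iff_one _).1 htop)
  obtain ⟨w, -, hw⟩ := Submodule.mem_span_finset.1 hT1
  have hdata : ∀ c : T, ∃ (R : CommRingCat.{u}) (o : Spec R ⟶ X) (_ : IsOpenImmersion o) (φ : R ⟶ CommRingCat.of (Localization.Away (c : C))),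
      Spec.map φ ≫ o = Spec.map (CommRingCat.ofHom (algebraMap C (Localization.Away (c : C)))) ≫ g := fun c => by
    obtain ⟨W, hW, hc⟩ := hTG c.2
    have r : Set.range (Spec.map (CommRingCat.ofHom (algebraMap C (Localization.Away (c : C)))) ≫ g).base ⊆
        Set.range hW.fromSpec.base := by
      rw [IsAffineOpen.range_fromSpec]; rintro _ ⟨y, rfl⟩
      exact hc _ ((range_Spec_away (c : C)).le ⟨y, rfl⟩)
    obtain ⟨φ, hφ⟩ := Spec.map_surjective (IsOpenImmersion.lift hW.fromSpec _ r)
    exact ⟨_, hW.fromSpec, inferInstance, φ, hφ ▸ IsOpenImmersion.lift_fac _ _ r⟩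
  choose R o ho φ hφ using hdata
  choose α hα using fun c => Spec.map_surjective (o c ≫ f)
  have hgen : ∀ c : T, ∃ s : Finset (R c), ∀ (U : Subring (R c)), (∀ a, (α c).hom a ∈ U) → (∀ x ∈ s, x ∈ U) → U = ⊤ := by
    intro c
    have := ho c
    have hft : LocallyOfFiniteType (o c ≫ f) := inferInstance
    rw [← hα c, HasRingHomProperty.Spec_iff (P := @LocallyOfFiniteType)] at hft
    algebraize [(α c).hom]
    obtain ⟨s, hs⟩ := (inferInstance : Algebra.FiniteType A (R c)).out
    refine ⟨s, fun U hA hsU => (Subring.eq_top_iff' U).2 fun x => ?_⟩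
    have hx : x ∈ Algebra.adjoin A (s : Set (R c)) := hs ▸ Algebra.mem_top
    induction hx using Algebra.adjoin_induction with
    | mem x hx => exact hsU x hx
    | algebraMap a => exact hA a
    | add x y _ _ hx hy => exact U.add_mem hx hy
    | mul x y _ _ hx hy => exact U.mul_mem hx hy
  choose gens hgens using hgen
  obtain ⟨i, -, hi⟩ := exists_stage S hdir hcov i₀ (T ∪ T.image w ∪
    (Finset.univ : Finset T).biUnion (fun c => (gens c).image fun x =>
      num (c : C) ((φ c).hom x)))
  have hTi : ∀ c : T, (c : C) ∈ S i := fun c => hi _ (by simp [c.2])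
  have hφα : ∀ c : T, ∀ a, (φ c).hom ((α c).hom a) = algebraMap C _ (algebraMap A C a) := fun c => by
    have : Spec.map (α c ≫ φ c) = Spec.map (CommRingCat.ofHom ((algebraMap C (Localization.Away (c : C))).comp (algebraMap A C))) := by
      rw [Spec.map_comp, hα, reassoc_of% hφ, hg, ← Spec.map_comp]; rfl
    exact fun a => congr($(Spec.map_injective this) a)
  have hrange : ∀ c : T, ∀ x, (φ c).hom x ∈ (toLim S i c (hTi c)).range := fun c x => by
    have : ((toLim S i c (hTi c)).range).comap (φ c).hom = ⊤ := hgens c _ (fun a => ⟨algebraMap (S i) _ (algebraMap A (S i) a), by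
        rw [locMap_algebraMap, hφα]; rfl⟩) fun y hy =>
      mem_range_toLim S _ _ _ (hi _ (Finset.mem_union_right _
        (Finset.mem_biUnion.2 ⟨c, Finset.mem_univ _, Finset.mem_image_of_mem _ hy⟩)))
    exact (this ▸ Subring.mem_top x : x ∈ ((toLim S i c (hTi c)).range).comap (φ c).hom)
  let ψ : ∀ c : T, R c →+* Stage S i c (hTi c) := fun c =>
    (RingEquiv.ofBijective (toLim S i c (hTi c)).rangeRestrict
      ⟨fun a b h => toLim_injective S i c _ (congrArg Subtype.val h), RingHom.rangeRestrict_surjective _⟩).symm.toRingHom.comp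
      ((φ c).hom.codRestrict _ (hrange c))
  have hψ : ∀ (c : T) x, toLim S i c (hTi c) (ψ c x) = (φ c).hom x := fun c x =>
    congrArg Subtype.val ((RingEquiv.ofBijective (toLim S i c (hTi c)).rangeRestrict
      ⟨fun a b h => toLim_injective S i c _ (congrArg Subtype.val h), RingHom.rangeRestrict_surjective _⟩).apply_symm_apply _)
  let h : ∀ c : T, Spec (CommRingCat.of (Stage S i c (hTi c))) ⟶ X := fun c => Spec.map (CommRingCat.ofHom (ψ c)) ≫ o c
  have hlim : ∀ c : T, Spec.map (CommRingCat.ofHom (toLim S i c (hTi c))) ≫ h c =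
      Spec.map (CommRingCat.ofHom (algebraMap C (Localization.Away (c : C)))) ≫ g := fun c => by
    rw [← hφ c, ← Spec.map_comp_assoc]
    congr 2
    exact CommRingCat.hom_ext (RingHom.ext (hψ c))
  refine ⟨i, T, hTi, h, fun c => ⟨w c, hi _ (Finset.mem_union_left _ (Finset.mem_union_right _ (Finset.mem_image_of_mem w c.2)))⟩, ?_, hlim, fun c => ?_⟩
  · refine Subtype.ext ?_
    rw [AddSubmonoidClass.coe_finsetSum]
    refine Eq.trans ?_ hw
    exact Finset.sum_coe_sort T fun c => w c * c
  · simp only [h, Category.assoc, ← hα c, ← Spec.map_comp]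
    refine congrArg Spec.map (CommRingCat.hom_ext (RingHom.ext fun a => toLim_injective S i c (hTi c) ?_))
    change toLim S i c _ (ψ c ((α c).hom a)) = toLim S i c _ (algebraMap (S i) _ (algebraMap A (S i) a))
    rw [hψ, hφα, locMap_algebraMap]
    rfl

/-- The restriction map from a stage to the stage at a product. -/
noncomputable abbrev mulMap (i : ι) (c e : C) (hc : c ∈ S i) (he : e ∈ S i) (x : S i) (hx : c * x = e) :
    Stage S i c hc →+* Stage S i e he :=
  locMap (RingHom.id (S i)) ⟨c, hc⟩ ⟨e, he⟩ (isUnit_of_mul _ _ _ x (Subtype.ext hx))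

/-- The restriction map at the limit. -/
noncomputable abbrev mulMapLim (c e : C) (x : C) (hx : c * x = e) : Localization.Away c →+* Localization.Away e :=
  locMap (RingHom.id C) c e (isUnit_of_mul _ _ _ x hx)

theorem toLim_mulMap (i : ι) (c e : C) (hc : c ∈ S i) (he : e ∈ S i) (x : S i) (hx : c * x = e) :
    (toLim S i e he).comp (mulMap S i c e hc he x hx) = (mulMapLim c e x hx).comp (toLim S i c hc) := by
  have u1 : IsUnit (algebraMap C (Localization.Away e) ((S i).val.toRingHom ⟨c, hc⟩)) := isUnit_of_mul _ _ _ (x : C) hx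
  rw [locMap_comp _ _ (S i).val.toRingHom (fun _ => rfl) _ _ _ _ _ u1, locMap_comp _ _ (S i).val.toRingHom (fun _ => rfl) _ _ _ _ _ u1]

theorem stageMap_mulMap {i j : ι} (hij : S i ≤ S j) (c e : C) (hc : c ∈ S i) (he : e ∈ S i) (x : S i) (hx : c * x = e) :
    (stageMap S hij e he).comp (mulMap S i c e hc he x hx) =
      (mulMap S j c e (hij hc) (hij he) ⟨x, hij x.2⟩ hx).comp (stageMap S hij c hc) := by
  have u1 : IsUnit (algebraMap (S j) (Stage S j e (hij he)) ((Subalgebra.inclusion hij).toRingHom ⟨c, hc⟩)) :=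
    isUnit_of_mul _ _ _ (⟨x, hij x.2⟩ : S j) (Subtype.ext hx)
  rw [locMap_comp _ _ (Subalgebra.inclusion hij).toRingHom (fun _ => rfl) _ _ _ _ _ u1,
    locMap_comp _ _ (Subalgebra.inclusion hij).toRingHom (fun _ => rfl) _ _ _ _ _ u1]

theorem stageMap_stageMap {i j k : ι} (hij : S i ≤ S j) (hjk : S j ≤ S k) (c : C) (hc : c ∈ S i) :
    (stageMap S hjk c (hij hc)).comp (stageMap S hij c hc) = stageMap S (hij.trans hjk) c hc :=
  locMap_comp _ _ _ (fun _ => rfl) _ _ _ _ _ _

include hdir hcov in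
theorem exists_pair (i : ι) (c d : C) (hc : c ∈ S i) (hd : d ∈ S i)
    (h₁ : Spec (CommRingCat.of (Stage S i c hc)) ⟶ X) (h₂ : Spec (CommRingCat.of (Stage S i d hd)) ⟶ X)
    (g : Spec (CommRingCat.of C) ⟶ X)
    (hl₁ : Spec.map (CommRingCat.ofHom (toLim S i c hc)) ≫ h₁ =
        Spec.map (CommRingCat.ofHom (algebraMap C (Localization.Away c))) ≫ g)
    (hl₂ : Spec.map (CommRingCat.ofHom (toLim S i d hd)) ≫ h₂ =
        Spec.map (CommRingCat.ofHom (algebraMap C (Localization.Away d))) ≫ g) :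
    ∃ (j : ι) (hij : S i ≤ S j),
      Spec.map (CommRingCat.ofHom ((stageMap S hij (c * d) (mul_mem hc hd)).comp
          (mulMap S i c (c * d) hc (mul_mem hc hd) ⟨d, hd⟩ rfl))) ≫ h₁ =
      Spec.map (CommRingCat.ofHom ((stageMap S hij (c * d) (mul_mem hc hd)).comp
          (mulMap S i d (c * d) hd (mul_mem hc hd) ⟨c, hc⟩ (mul_comm d c)))) ≫ h₂ := by
  obtain ⟨j, hij, hj⟩ := eq_at_stage S hdir hcov i (c * d) (mul_mem hc hd)
    (Spec.map (CommRingCat.ofHom (mulMap S i c (c * d) hc (mul_mem hc hd) ⟨d, hd⟩ rfl)) ≫ h₁)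
    (Spec.map (CommRingCat.ofHom (mulMap S i d (c * d) hd (mul_mem hc hd) ⟨c, hc⟩ (mul_comm d c))) ≫ h₂) (by
      rw [← Spec.map_comp_assoc, ← Spec.map_comp_assoc, ← CommRingCat.ofHom_comp, ← CommRingCat.ofHom_comp,
        toLim_mulMap, toLim_mulMap, CommRingCat.ofHom_comp, CommRingCat.ofHom_comp, Spec.map_comp_assoc,
        Spec.map_comp_assoc, hl₁, hl₂, ← Spec.map_comp_assoc, ← Spec.map_comp_assoc, ← CommRingCat.ofHom_comp,
        ← CommRingCat.ofHom_comp, locMap_comp_algebraMap, locMap_comp_algebraMap])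
  refine ⟨j, hij, ?_⟩
  rw [CommRingCat.ofHom_comp, CommRingCat.ofHom_comp, Spec.map_comp_assoc, Spec.map_comp_assoc]
  exact hj

include hdir hcov in
theorem exists_hom_from_stage (f : X ⟶ Spec (CommRingCat.of A)) [LocallyOfFiniteType f]
    (g : Spec (CommRingCat.of C) ⟶ X) (hg : g ≫ f = Spec.map (CommRingCat.ofHom (algebraMap A C))) :
    ∃ (i : ι) (g' : Spec (CommRingCat.of (S i)) ⟶ X),
      g' ≫ f = Spec.map (CommRingCat.ofHom (algebraMap A (S i))) ∧
      Spec.map (CommRingCat.ofHom (S i).val.toRingHom) ≫ g' = g := by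
  classical
  obtain ⟨i, T, hTi, h, w, hw, hlim, hstr⟩ := exists_charts S hdir hcov f g hg
  choose jp hjp hpe using fun c d : T => exists_pair S hdir hcov i c d (hTi c) (hTi d) (h c) (h d) g (hlim c) (hlim d)
  haveI : Nonempty ι := ⟨i⟩
  obtain ⟨J, hJ⟩ := hdir.finset_le ({i} ∪ (Finset.univ : Finset (T × T)).image fun p => jp p.1 p.2)
  have hiJ : S i ≤ S J := hJ i (by simp)
  have hjJ : ∀ c d, S (jp c d) ≤ S J := fun c d =>
    hJ _ (Finset.mem_union_right _ (Finset.mem_image_of_mem (fun p : T × T => jp p.1 p.2) (Finset.mem_univ (c, d))))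
  let s : T → S J := fun c => ⟨c, hiJ (hTi c)⟩
  have hs : Ideal.span (Set.range s) = ⊤ := by
    rw [Ideal.eq_top_iff_one, Ideal.span, Submodule.mem_span_range_iff_exists_fun]
    exact ⟨fun c => Subalgebra.inclusion hiJ (w c), by
      have := congrArg (Subalgebra.inclusion hiJ) hw
      rw [map_sum, map_one] at this
      refine Eq.trans (Finset.sum_congr rfl fun c _ => ?_) this
      rw [map_mul, smul_eq_mul]; rfl⟩
  let 𝒰 := (Scheme.affineOpenCoverOfSpanRangeEqTop (R := CommRingCat.of (S J)) s hs).openCover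
  let u : ∀ c : T, Spec (CommRingCat.of (Stage S J c (hiJ (hTi c)))) ⟶ Spec (CommRingCat.of (S J)) :=
    fun c => Spec.map (CommRingCat.ofHom (algebraMap (S J) _))
  let hJc : ∀ c : T, Spec (CommRingCat.of (Stage S J c (hiJ (hTi c)))) ⟶ X :=
    fun c => Spec.map (CommRingCat.ofHom (stageMap S hiJ c (hTi c))) ≫ h c
  have hcompat : ∀ c d : T, pullback.fst (u c) (u d) ≫ hJc c = pullback.snd (u c) (u d) ≫ hJc d := by
    intro c d
    have hm : (c : C) * d ∈ S J := mul_mem (hiJ (hTi c)) (hiJ (hTi d))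
    let q := Spec.map (CommRingCat.ofHom (algebraMap (S J) (Stage S J ((c : C) * d) hm)))
    have hr : Set.range (pullback.fst (u c) (u d) ≫ u c).base ⊆ Set.range q.base := by
      rw [range_Spec_away, show (⟨(c : C) * d, hm⟩ : S J) = s c * s d from rfl, PrimeSpectrum.basicOpen_mul]
      rintro _ ⟨y, rfl⟩
      refine ⟨(range_Spec_away (s c)).le ⟨_, rfl⟩, ?_⟩
      rw [pullback.condition]
      exact (range_Spec_away (s d)).le ⟨_, rfl⟩
    haveI : IsOpenImmersion q := IsOpenImmersion.of_isLocalization (⟨(c : C) * d, hm⟩ : S J)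
    let l := IsOpenImmersion.lift q _ hr
    let a := Spec.map (CommRingCat.ofHom (mulMap S J c ((c : C) * d) (hiJ (hTi c)) hm (s d) rfl))
    let b := Spec.map (CommRingCat.ofHom (mulMap S J d ((c : C) * d) (hiJ (hTi d)) hm (s c) (mul_comm (d : C) c)))
    have ha : a ≫ u c = q := by
      simp only [a, u, q, ← Spec.map_comp, ← CommRingCat.ofHom_comp]
      rw [locMap_comp_algebraMap, RingHom.comp_id]
    have hb : b ≫ u d = q := by
      simp only [b, u, q, ← Spec.map_comp, ← CommRingCat.ofHom_comp]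
      rw [locMap_comp_algebraMap, RingHom.comp_id]
    haveI : IsOpenImmersion (u c) := IsOpenImmersion.of_isLocalization (s c)
    haveI : IsOpenImmersion (u d) := IsOpenImmersion.of_isLocalization (s d)
    have h1 : pullback.fst (u c) (u d) = l ≫ a := by
      rw [← cancel_mono (u c), Category.assoc, ha, IsOpenImmersion.lift_fac]
    have h2 : pullback.snd (u c) (u d) = l ≫ b := by
      rw [← cancel_mono (u d), Category.assoc, hb, IsOpenImmersion.lift_fac, pullback.condition]
    rw [h1, h2, Category.assoc, Category.assoc]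
    congr 1
    have key := congrArg (Spec.map (CommRingCat.ofHom (stageMap S (hjJ c d) ((c : C) * d) (hjp c d (mul_mem (hTi c) (hTi d))))) ≫ ·) (hpe c d)
    simp only [← Spec.map_comp_assoc, ← CommRingCat.ofHom_comp, ← RingHom.comp_assoc, stageMap_stageMap] at key
    rw [stageMap_mulMap, stageMap_mulMap] at key
    simp only [a, b, hJc, ← Spec.map_comp_assoc, ← CommRingCat.ofHom_comp]
    exact key
  let g' : Spec (CommRingCat.of (S J)) ⟶ X := 𝒰.glueMorphisms hJc hcompat
  have hg' : ∀ c : T, u c ≫ g' = hJc c := fun c => 𝒰.ι_glueMorphisms hJc hcompat c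
  refine ⟨J, g', 𝒰.hom_ext _ _ fun c => ?_, ?_⟩
  · change u c ≫ g' ≫ f = u c ≫ _
    rw [reassoc_of% hg' c]
    simp only [hJc, u, Category.assoc, hstr c, ← Spec.map_comp, ← CommRingCat.ofHom_comp]
    congr 2
    rw [← RingHom.comp_assoc, locMap_comp_algebraMap]
    rfl
  · have hT : Ideal.span (Set.range fun c : T => (c : C)) = ⊤ := by
      rw [Ideal.eq_top_iff_one]
      rw [Ideal.span, Submodule.mem_span_range_iff_exists_fun]
      refine ⟨fun c => (w c : C), ?_⟩
      have := congrArg (S i).val hw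
      rw [map_sum, map_one] at this
      refine Eq.trans (Finset.sum_congr rfl fun c _ => ?_) this
      rw [map_mul, smul_eq_mul]; rfl
    refine ((Scheme.affineOpenCoverOfSpanRangeEqTop (R := CommRingCat.of C) (fun c : T => (c : C)) hT).openCover).hom_ext _ _ (fun (c : T) => ?_)
    change Spec.map (CommRingCat.ofHom (algebraMap C (Localization.Away (c : C)))) ≫ Spec.map (CommRingCat.ofHom (S J).val.toRingHom) ≫ g' = Spec.map (CommRingCat.ofHom (algebraMap C (Localization.Away (c : C)))) ≫ g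
    have e1 : (toLim S J c (hiJ (hTi c))).comp (algebraMap (S J) (Stage S J c (hiJ (hTi c)))) =
        (algebraMap C (Localization.Away (c : C))).comp (S J).val.toRingHom := locMap_comp_algebraMap _ _ _ _
    rw [← hlim c, ← Spec.map_comp_assoc, ← CommRingCat.ofHom_comp, ← e1, CommRingCat.ofHom_comp, Spec.map_comp_assoc]
    change Spec.map (CommRingCat.ofHom (toLim S J c (hiJ (hTi c)))) ≫ u c ≫ g' = _
    rw [hg' c]
    simp only [hJc, ← Spec.map_comp_assoc, ← CommRingCat.ofHom_comp, toLim_stageMap]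

end Union

end Groth.Lim71
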